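import Mathlib
import Cfsg.Agent.H75.Transfer

/-!
# The stabilizer of a nonsingular point is maximal in `Ω`

`Q` a nondegenerate quadratic form on a space of dimension at least `7` over a finite field, `Q v ≠ 0`.
Two-orbit argument: the long root elements `sg u w` (`u, w` singular and orthogonal) which do not fix `v` are conjugate
under the stabilizer of `v`, up to the field parameter.
-/

set_option autoImplicit false
set_option linter.unusedSectionVars false

namespace Cfsg.Agent.H79.OmNs

open QuadraticMap Cfsg.Agent.LieClassical.OrthCore Cfsg.Agent.LieClassical.OrthTrans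
open Cfsg.Agent.LieClassical.OrthFinite Cfsg.Agent.LieClassical.OrthForms
open Cfsg.Agent.H75.OrthIdx

variable {F V : Type*} [Field F] [AddCommGroup V] [Module F V] {Q : QuadraticForm F V}

theorem sg_zero_left (w : V) : sg Q 0 w = 1 := by
  ext x
  rw [sg_apply (QuadraticMap.map_zero Q) (polar_zero_left Q w), polar_zero_left]
  simp

/-- `E Q` is generated by the long root elements. -/
theorem E_le_of_long (hG : Good Q) {H : Subgroup (V ≃ₗ[F] V)}
    (hH : ∀ u w, Q u = 0 → Q w = 0 → polar Q u w = 0 → sg Q u w ∈ H) : E Q ≤ H := by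
  rw [E, Subgroup.closure_le]
  rintro _ ⟨u, w, hu, hw, rfl⟩
  rw [← sg_eq hu hw]
  change sg Q u w ∈ H
  by_cases hu0 : u = 0
  · rw [hu0, sg_zero_left]
    exact H.one_mem
  obtain ⟨u', h⟩ := exists_hyp hG.nondeg hu hu0
  obtain ⟨z, z', hz, huz, huz', hu'z, hu'z'⟩ := hG.exists_hyp2 h
  have key : ∀ v, polar Q u v = 0 → polar Q u' v = 0 → sg Q u v ∈ H := by
    intro v hv1 hv2
    refine sing_induction_perp hz huz huz' hu'z hu'z' (P := fun v => sg Q u v ∈ H) ?_ ?_ v hv1 hv2
    · intro a c ha1 _ hc1 _ ha hc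
      rw [← sg_mul ha1 hc1]
      exact H.mul_mem ha hc
    · intro a ha h1 _
      exact hH u a hu ha h1
  have e : w = LieClassical.OrthTrans.proj Q u u' w + (polar Q u' w) • u := by
    rw [LieClassical.OrthTrans.proj, hw]; module
  rw [e, sg_add_smul hu]
  exact key _ (polar_proj_left h w) (polar_proj_right h w)

section

variable [Finite F] [FiniteDimensional F V]

/-- Witt's theorem for triples `v, y, x` with `v` nonsingular, `y, x` singular, `v ⊥ y ⊥ x`, `B(v, x) = 1` -/
theorem exists_triple_map (hG : Good Q) (hd : 7 ≤ Module.finrank F V) {v y x y' x' : V} (hv : Q v ≠ 0)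
    (hy : Q y = 0) (hy0 : y ≠ 0) (hvy : polar Q v y = 0) (hx : Q x = 0) (hvx : polar Q v x = 1)
    (hyx : polar Q y x = 0) (hy' : Q y' = 0) (hy0' : y' ≠ 0) (hvy' : polar Q v y' = 0) (hx' : Q x' = 0)
    (hvx' : polar Q v x' = 1) (hyx' : polar Q y' x' = 0) :
    ∃ g ∈ E Q, g v = v ∧ g y = y' ∧ g x = x' := by
  have li : ∀ {y x : V}, Q y = 0 → y ≠ 0 → polar Q v y = 0 → Q x = 0 → polar Q v x = 1 →
      polar Q y x = 0 → LinearIndependent F ![v, y, x] := by
    intro y x hy hy0 hvy hx hvx hyx
    refine Fintype.linearIndependent_iff.2 fun g hg => ?_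
    rw [Fin.sum_univ_three] at hg
    change g 0 • v + g 1 • y + g 2 • x = 0 at hg
    have h1 : polar Q x (g 0 • v + g 1 • y + g 2 • x) = 0 := by rw [hg, polar_zero_right]
    rw [polar_add_right, polar_add_right, polar_smul_right, polar_smul_right, polar_smul_right,
      polar_comm Q x v, hvx, polar_comm Q x y, hyx, polar_self_of_sing hx] at h1
    have h0 : g 0 = 0 := by simpa using h1
    have h2 : polar Q v (g 0 • v + g 1 • y + g 2 • x) = 0 := by rw [hg, polar_zero_right]
    rw [h0, polar_add_right, polar_add_right, polar_smul_right, polar_smul_right, polar_smul_right,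
      hvx, hvy] at h2
    have h3 : g 2 = 0 := by simpa using h2
    have h4 : g 1 = 0 := by
      rw [h0, h3, zero_smul, zero_smul, zero_add, add_zero] at hg
      rcases smul_eq_zero.1 hg with h | h
      · exact h
      · exact absurd h hy0
    intro i
    fin_cases i
    · exact h0
    · exact h4
    · exact h3
  obtain ⟨g, hg, h⟩ := exists_E_map hG ![v, y, x] ![v, y', x'] (li hy hy0 hvy hx hvx hyx)
    (li hy' hy0' hvy' hx' hvx' hyx')
    (by
      intro i
      fin_cases i
      · rfl
      · exact hy.trans hy'.symm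
      · exact hx.trans hx'.symm)
    (by
      intro i j
      fin_cases i <;> fin_cases j
      · rfl
      · exact hvy.trans hvy'.symm
      · exact hvx.trans hvx'.symm
      · change polar Q y v = polar Q y' v
        rw [polar_comm Q y, polar_comm Q y', hvy, hvy']
      · change polar Q y y = polar Q y' y'
        rw [polar_self_of_sing hy, polar_self_of_sing hy']
      · exact hyx.trans hyx'.symm
      · change polar Q x v = polar Q x' v
        rw [polar_comm Q x, polar_comm Q x', hvx, hvx']
      · change polar Q x y = polar Q x' y'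
        rw [polar_comm Q x, polar_comm Q x', hyx, hyx']
      · change polar Q x x = polar Q x' x'
        rw [polar_self_of_sing hx, polar_self_of_sing hx'])
    (by
      intro c _
      have h1 : Module.finrank F (Submodule.span F (Set.range ![v, y, x])) ≤ 3 := by
        have := finrank_range_le_card (R := F) ![v, y, x]
        rw [Set.finrank, Fintype.card_fin] at this
        omega
      obtain ⟨z, hz, hzc⟩ := exists_norm_perp hG.nondeg (Submodule.span F (Set.range ![v, y, x]))
        (Or.inr ⟨by omega, v, Submodule.subset_span ⟨0, rfl⟩, hv⟩) c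
      exact ⟨z, hzc, fun i => hz _ (Submodule.subset_span ⟨i, rfl⟩)⟩)
  exact ⟨g, hg, h 0, h 1, h 2⟩

/-- a singular vector of `v^⊥` is in a hyperbolic pair of `v^⊥` -/
theorem exists_hyp_in_perp (hQ : Nondeg Q) {v u : V} (hv : Q v ≠ 0) (hu : Q u = 0) (hu0 : u ≠ 0)
    (hvu : polar Q v u = 0) : ∃ u', Hyp Q u u' ∧ polar Q v u' = 0 := by
  obtain ⟨y, hy1, hy2⟩ := exists_sep hQ (x := u) (z := v) (by
    intro c hc
    have h1 : Q u = c * c * Q v := by rw [hc, QuadraticMap.map_smul, smul_eq_mul]
    rw [hu] at h1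
    have h2 : c = 0 := by
      rcases mul_eq_zero.1 h1.symm with h | h
      · exact mul_self_eq_zero.1 h
      · exact absurd h hv
    exact hu0 (by rw [hc, h2, zero_smul]))
  refine ⟨y + (-Q y) • u, ⟨hu, ?_, ?_⟩, ?_⟩
  · rw [Q_add, QuadraticMap.map_smul, hu, polar_smul_right, polar_comm Q y u, hy2]
    simp
  · rw [polar_add_right, polar_smul_right, hy2, polar_self_of_sing hu, smul_zero, add_zero]
  · rw [polar_add_right, polar_smul_right, hy1, hvu, smul_zero, add_zero]

/-- a singular vector of `v^⊥` is in a totally singular plane of `v^⊥` -/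
theorem exists_ts_in_perp (hQ : Nondeg Q) (hd : 7 ≤ Module.finrank F V) {v u : V} (hv : Q v ≠ 0)
    (hu : Q u = 0) (hu0 : u ≠ 0) (hvu : polar Q v u = 0) :
    ∃ w, Q w = 0 ∧ polar Q v w = 0 ∧ polar Q u w = 0 ∧ ∀ c : F, w ≠ c • u := by
  obtain ⟨u', h, hvu'⟩ := exists_hyp_in_perp hQ hv hu hu0 hvu
  obtain ⟨w, hw0, hw, hp⟩ := exists_sing_perp (Q := Q) ![v, u, u'] (by omega)
  refine ⟨w, hw, hp 0, hp 1, ?_⟩
  rintro c rfl
  have h1 : polar Q u' (c • u) = 0 := hp 2
  rw [polar_smul_right, h.pair', smul_eq_mul, mul_one] at h1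
  exact hw0 (by rw [h1, zero_smul])

/-- **The stabilizer of a nonsingular point is maximal in `E Q`.** -/
theorem eq_or_eq (hG : Good Q) (hd : 7 ≤ Module.finrank F V) {v : V} (hv : Q v ≠ 0)
    {H : Subgroup (V ≃ₗ[F] V)} (hH : H ≤ E Q) (hle : StT Q (Submodule.span F {v}) ≤ H) :
    H = StT Q (Submodule.span F {v}) ∨ H = E Q := by
  have hfix : ∀ g ∈ E Q, g v = v → g ∈ H := by
    intro g hg hgv
    refine hle ⟨hg, fun x => ?_⟩
    constructor
    · intro hx
      obtain ⟨c, rfl⟩ := Submodule.mem_span_singleton.1 hx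
      rw [map_smul, hgv]
      exact Submodule.smul_mem _ _ (Submodule.mem_span_singleton_self v)
    · intro hx
      obtain ⟨c, hc⟩ := Submodule.mem_span_singleton.1 hx
      have h1 : g x = g (c • v) := by rw [map_smul, hgv, hc]
      rw [g.injective h1]
      exact Submodule.smul_mem _ _ (Submodule.mem_span_singleton_self v)
  -- normal form of the root elements not fixing `v`
  have nf : ∀ u w : V, Q u = 0 → Q w = 0 → polar Q u w = 0 → polar Q v u ≠ 0 →
      ∃ y x : V, Q y = 0 ∧ polar Q v y = 0 ∧ Q x = 0 ∧ polar Q v x = 1 ∧ polar Q y x = 0 ∧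
        sg Q u w = sg Q x y := by
    intro u w hu hw huw hvu
    set c := polar Q v u with hc
    refine ⟨c • w + (-(polar Q v (c • w))) • (c⁻¹ • u), c⁻¹ • u, ?_, ?_, ?_, ?_, ?_, ?_⟩
    · rw [Q_add, QuadraticMap.map_smul, hw, QuadraticMap.map_smul, QuadraticMap.map_smul, hu]
      simp only [polar_smul_left, polar_smul_right]
      rw [polar_comm Q w u, huw]
      simp
    · have h1 : polar Q v (c⁻¹ • u) = 1 := by
        rw [polar_smul_right, ← hc, smul_eq_mul, inv_mul_cancel₀ hvu]
      rw [polar_add_right, polar_smul_right (y := c⁻¹ • u), h1, smul_eq_mul, mul_one, add_neg_cancel]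
    · rw [QuadraticMap.map_smul, hu, smul_zero]
    · rw [polar_smul_right, ← hc, smul_eq_mul, inv_mul_cancel₀ hvu]
    · simp only [polar_add_left, polar_smul_left, polar_smul_right]
      rw [polar_comm Q w u, huw, polar_self_of_sing hu]
      simp
    · have hx : Q (c⁻¹ • u) = 0 := by rw [QuadraticMap.map_smul, hu, smul_zero]
      rw [sg_add_smul hx, sg_smul_left (inv_ne_zero hvu), smul_smul, inv_mul_cancel₀ hvu, one_smul]
  by_cases hc : ∃ u w : V, Q u = 0 ∧ Q w = 0 ∧ polar Q u w = 0 ∧ sg Q u w ∈ H ∧ sg Q u w ≠ 1 ∧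
      polar Q v u ≠ 0
  · right
    obtain ⟨u, w, hu, hw, huw, hmem, hne, hvu⟩ := hc
    obtain ⟨y, x, hy, hvy, hx, hvx, hyx, e⟩ := nf u w hu hw huw hvu
    have hy0 : y ≠ 0 := by
      rintro rfl
      exact hne (by rw [e, sg_zero])
    rw [e] at hmem
    have h1 : ∀ u w : V, Q u = 0 → Q w = 0 → polar Q u w = 0 → polar Q v u ≠ 0 → sg Q u w ∈ H := by
      intro u w hu hw huw hvu
      obtain ⟨y', x', hy', hvy', hx', hvx', hyx', e'⟩ := nf u w hu hw huw hvu
      rw [e']
      by_cases hy0' : y' = 0
      · rw [hy0', sg_zero]; exact H.one_mem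
      obtain ⟨g, hg, hgv, hgy, hgx⟩ := exists_triple_map hG hd hv hy hy0 hvy hx hvx hyx hy' hy0' hvy'
        hx' hvx' hyx'
      have h2 : g * sg Q x y * g⁻¹ ∈ H := H.mul_mem (H.mul_mem (hfix g hg hgv) hmem)
        (H.inv_mem (hfix g hg hgv))
      rwa [sg_conj (E_le_O hg), hgx, hgy] at h2
    refine le_antisymm hH (E_le_of_long hG fun u w hu hw huw => ?_)
    by_cases hvu : polar Q v u = 0
    · by_cases hvw : polar Q v w = 0
      · refine hfix _ (sg_mem_E _ _) (sg_fix ?_ ?_)
        · rw [polar_comm]; exact hvu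
        · rw [polar_comm]; exact hvw
      · rw [sg_swap hu hw huw]
        refine h1 w (-u) hw (by rw [QuadraticMap.map_neg, hu]) (by rw [polar_neg_right, polar_comm, huw, neg_zero]) hvw
    · exact h1 u w hu hw huw hvu
  · left
    push Not at hc
    refine le_antisymm ?_ hle
    have hst : ∀ h ∈ H, ∀ z, polar Q v z = 0 → polar Q v (h z) = 0 := by
      intro h hh z hz
      obtain ⟨u, hu0, hu, hp⟩ := exists_sing_perp (Q := Q) ![v] (by omega)
      have hvu : polar Q v u = 0 := hp 0
      obtain ⟨u', hyp, hvu'⟩ := exists_hyp_in_perp hG.nondeg hv hu hu0 hvu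
      refine sing_induction_perp hyp hvu hvu' hvu hvu' (P := fun z => polar Q v (h z) = 0) ?_ ?_ z hz hz
      · intro a c _ _ _ _ ha hc
        rw [map_add, polar_add_right, ha, hc, add_zero]
      · intro a ha hva _
        by_cases ha0 : a = 0
        · rw [ha0, map_zero, polar_zero_right]
        obtain ⟨w, hw, hvw, haw, hwa⟩ := exists_ts_in_perp hG.nondeg hd hv ha ha0 hva
        by_contra hne
        have hO := E_le_O (hH hh)
        have h2 : h * sg Q a w * h⁻¹ ∈ H := H.mul_mem (H.mul_mem hh (hfix _ (sg_mem_E _ _) (sg_fix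
          (by rw [polar_comm]; exact hva) (by rw [polar_comm]; exact hvw)))) (H.inv_mem hh)
        rw [sg_conj hO] at h2
        have h3 : sg Q (h a) (h w) ≠ 1 := by
          rw [← sg_conj hO]
          intro h4
          have h5 : sg Q a w = 1 := by
            have : sg Q a w = h⁻¹ * (h * sg Q a w * h⁻¹) * h := by group
            rw [this, h4]; group
          obtain ⟨c, hc⟩ := eq_smul_of_sg_eq_one hG.nondeg ha ha0 haw h5
          exact hwa c hc
        exact hne (hc (h a) (h w) (by rw [mem_O.1 hO, ha]) (by rw [mem_O.1 hO, hw])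
          (by rw [polar_map hO, haw]) h2 h3)
    intro h hh
    have hO := E_le_O (hH hh)
    -- `h⁻¹ v` is a multiple of `v`
    have hmul : ∀ h ∈ H, ∃ c : F, h⁻¹ v = c • v := by
      intro h hh
      have hO := E_le_O (hH hh)
      by_contra hcon
      push Not at hcon
      obtain ⟨y, hy1, hy2⟩ := exists_sep hG.nondeg hcon
      have h3 := hst h hh y hy1
      have h4 : polar Q (h⁻¹ v) y = polar Q v (h y) := by
        rw [← polar_map hO (h⁻¹ v) y]
        congr 1
        exact LinearEquiv.apply_symm_apply h v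
      rw [h4, h3] at hy2
      exact zero_ne_one hy2
    refine ⟨hH hh, fun x => ?_⟩
    constructor
    · intro hx
      obtain ⟨c, rfl⟩ := Submodule.mem_span_singleton.1 hx
      obtain ⟨d, hd⟩ := hmul h⁻¹ (H.inv_mem hh)
      rw [inv_inv] at hd
      rw [map_smul, hd, smul_smul]
      exact Submodule.smul_mem _ _ (Submodule.mem_span_singleton_self v)
    · intro hx
      obtain ⟨c, hc⟩ := Submodule.mem_span_singleton.1 hx
      obtain ⟨d, hd⟩ := hmul h hh
      have h5 : x = h⁻¹ (h x) := (LinearEquiv.symm_apply_apply h x).symm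
      rw [h5, ← hc, map_smul, hd, smul_smul]
      exact Submodule.smul_mem _ _ (Submodule.mem_span_singleton_self v)

/-- the stabilizer is proper -/
theorem StT_ne (hG : Good Q) (hd : 7 ≤ Module.finrank F V) {v : V} (hv : Q v ≠ 0) :
    StT Q (Submodule.span F {v}) ≠ E Q := by
  intro h
  obtain ⟨w, hw0, hw, hp⟩ := exists_sing_perp (Q := Q) ![v] (by omega)
  have hvw : polar Q v w = 0 := hp 0
  have hv0 : v ≠ 0 := by rintro rfl; exact hv (QuadraticMap.map_zero Q)
  have hQ : Q (v + w) = Q v := by rw [Q_add, hw, hvw, add_zero, add_zero]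
  obtain ⟨g, hg, hgv⟩ := hG.trans_norm hv0 (v' := v + w) (by
    intro h0
    rw [h0, QuadraticMap.map_zero] at hQ
    exact hv hQ.symm) hQ.symm
  rw [← h] at hg
  have h1 := (hg.2 v).1 (Submodule.mem_span_singleton_self v)
  rw [hgv] at h1
  obtain ⟨c, hc⟩ := Submodule.mem_span_singleton.1 h1
  have h2 : w = (c - 1) • v := by
    rw [sub_smul, one_smul, hc]; abel
  have h3 : Q w = (c - 1) * (c - 1) * Q v := by
    conv_lhs => rw [h2]
    rw [QuadraticMap.map_smul, smul_eq_mul]
  rw [hw] at h3
  rcases mul_eq_zero.1 h3.symm with h4 | h4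
  · exact hw0 (by rw [h2, mul_self_eq_zero.1 h4, zero_smul])
  · exact hv h4

end

end Cfsg.Agent.H79.OmNs
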