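import Mathlib
import Cfsg.Agent.H79.OmNs.Coatom

/-!
# The stabilizer of a nonsingular point in `POmega`

* `D hG v` : the image in `POmega F Q` of the stabilizer of `⟨v⟩`;
* `isCoatom_D`, `index_D`, `not_conj_D`, `dvd_index_D`.
-/

set_option autoImplicit false
set_option linter.unusedSectionVars false

namespace Cfsg.Agent.H79.OmNs

open QuadraticMap Cfsg.Agent.LieClassical.OrthCore Cfsg.Agent.LieClassical.OrthTrans
open Cfsg.Agent.LieClassical.OrthFinite Cfsg.Agent.LieClassical.OrthForms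
open Cfsg.Agent.H75.OrthIdx

section

variable {F V : Type*} [Field F] [Finite F] [AddCommGroup V] [Module F V] [FiniteDimensional F V]
  {Q : QuadraticForm F V}

/-- the stabilizer determines the point -/
theorem mem_span_of_le (hG : Good Q) (hd : 7 ≤ Module.finrank F V) {u v : V} (hu : Q u ≠ 0) (hv : Q v ≠ 0)
    (h : StT Q (Submodule.span F {u}) ≤ StT Q (Submodule.span F {v})) : ∃ c : F, v = c • u := by
  -- the singular vectors of `u^⊥` are orthogonal to `v`
  have h1 : ∀ a, Q a = 0 → polar Q u a = 0 → polar Q v a = 0 := by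
    intro a ha hua
    by_cases ha0 : a = 0
    · rw [ha0, polar_zero_right]
    obtain ⟨w, hw, huw, haw, hwa⟩ := exists_ts_in_perp hG.nondeg hd hu ha ha0 hua
    have hg : sg Q a w ∈ StT Q (Submodule.span F {v}) := by
      have hgu : sg Q a w u = u := sg_fix (by rw [polar_comm]; exact hua) (by rw [polar_comm]; exact huw)
      refine h ⟨sg_mem_E _ _, fun x => ?_⟩
      constructor
      · intro hx
        obtain ⟨c, rfl⟩ := Submodule.mem_span_singleton.1 hx
        rw [map_smul, hgu]
        exact Submodule.smul_mem _ _ (Submodule.mem_span_singleton_self u)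
      · intro hx
        obtain ⟨c, hc⟩ := Submodule.mem_span_singleton.1 hx
        have h1 : sg Q a w x = sg Q a w (c • u) := by rw [map_smul, hgu, hc]
        rw [(sg Q a w).injective h1]
        exact Submodule.smul_mem _ _ (Submodule.mem_span_singleton_self u)
    have h2 := (hg.2 v).1 (Submodule.mem_span_singleton_self v)
    obtain ⟨c, hc⟩ := Submodule.mem_span_singleton.1 h2
    rw [sg_apply ha haw, hw] at hc
    have h3 : (c - 1) • v = polar Q a v • w - polar Q w v • a := by
      rw [sub_smul, one_smul, hc]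
      simp only [zero_mul, zero_smul, sub_zero]
      abel
    have h4 : Q ((c - 1) • v) = 0 := by
      rw [h3, sub_eq_add_neg, ← neg_smul, Q_add, QuadraticMap.map_smul, QuadraticMap.map_smul, hw, ha]
      simp only [polar_smul_left, polar_smul_right]
      rw [polar_comm Q w a, haw]
      simp
    rw [QuadraticMap.map_smul, smul_eq_mul] at h4
    have h5 : c - 1 = 0 := by
      rcases mul_eq_zero.1 h4 with h6 | h6
      · exact mul_self_eq_zero.1 h6
      · exact absurd h6 hv
    rw [h5, zero_smul] at h3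
    by_contra hne
    rw [polar_comm] at hne
    apply hwa ((polar Q a v)⁻¹ * polar Q w v)
    rw [mul_smul, ← sub_eq_zero.1 h3.symm, smul_smul, inv_mul_cancel₀ hne, one_smul]
  -- hence all of `u^⊥`
  have h2 : ∀ z, polar Q u z = 0 → polar Q v z = 0 := by
    intro z hz
    obtain ⟨a, ha0, ha, hp⟩ := exists_sing_perp (Q := Q) ![u] (by omega)
    have hua : polar Q u a = 0 := hp 0
    obtain ⟨a', hyp, hua'⟩ := exists_hyp_in_perp hG.nondeg hu ha ha0 hua
    refine sing_induction_perp hyp hua hua' hua hua' (P := fun z => polar Q v z = 0) ?_ ?_ z hz hz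
    · intro x y _ _ _ _ hx hy
      rw [polar_add_right, hx, hy, add_zero]
    · intro x hx hux _
      exact h1 x hx hux
  by_contra hcon
  push Not at hcon
  obtain ⟨y, hy1, hy2⟩ := exists_sep hG.nondeg hcon
  rw [h2 y hy1] at hy2
  exact zero_ne_one hy2

/-- conjugation of the stabilizers -/
theorem conj_StT {g : V ≃ₗ[F] V} (hg : g ∈ E Q) (v : V) {x : V ≃ₗ[F] V} :
    x ∈ StT Q (Submodule.span F {g v}) ↔ g⁻¹ * x * g ∈ StT Q (Submodule.span F {v}) := by
  have hmem : ∀ y : V, g y ∈ Submodule.span F {g v} ↔ y ∈ Submodule.span F {v} := by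
    intro y
    rw [Submodule.mem_span_singleton, Submodule.mem_span_singleton]
    constructor
    · rintro ⟨c, hc⟩
      exact ⟨c, g.injective (by rw [map_smul, hc])⟩
    · rintro ⟨c, hc⟩
      exact ⟨c, by rw [← hc, map_smul]⟩
  have hinv : ∀ y : V, g (g⁻¹ y) = y := fun y => LinearEquiv.apply_symm_apply g y
  constructor
  · rintro ⟨hx, hx'⟩
    refine ⟨(E Q).mul_mem ((E Q).mul_mem ((E Q).inv_mem hg) hx) hg, fun y => ?_⟩
    rw [← hmem, ← hmem]
    change _ ↔ g (g⁻¹ (x (g y))) ∈ _
    rw [hinv]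
    exact hx' (g y)
  · rintro ⟨hx, hx'⟩
    refine ⟨?_, fun y => ?_⟩
    · have : x = g * (g⁻¹ * x * g) * g⁻¹ := by group
      rw [this]
      exact (E Q).mul_mem ((E Q).mul_mem hg hx) ((E Q).inv_mem hg)
    · have h1 := hx' (g⁻¹ y)
      rw [← hmem, ← hmem] at h1
      change _ ↔ g (g⁻¹ (x (g (g⁻¹ y)))) ∈ _ at h1
      rw [hinv, hinv] at h1
      exact h1

/-- the orbit of `v`, characteristic two -/
theorem relIndex_StT_two (hG : Good Q) (h2 : (2 : F) = 0) {v : V} (hv : Q v ≠ 0) :
    (StT Q (Submodule.span F {v})).relIndex (E Q) = {w : V | Q w = Q v}.ncard := by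
  classical
  have hv0 : v ≠ 0 := by rintro rfl; exact hv (QuadraticMap.map_zero Q)
  have h1 : (StT Q (Submodule.span F {v})).subgroupOf (E Q) = MulAction.stabilizer (E Q) v := by
    ext g
    rw [Subgroup.mem_subgroupOf, MulAction.mem_stabilizer_iff]
    constructor
    · intro hg
      obtain ⟨c, hc⟩ := Submodule.mem_span_singleton.1 ((hg.2 v).1 (Submodule.mem_span_singleton_self v))
      have h3 : Q (c • v) = Q v := by rw [hc, mem_O.1 (E_le_O g.2)]
      rw [QuadraticMap.map_smul, smul_eq_mul] at h3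
      have h4 : c * c = 1 := by
        have := mul_right_cancel₀ hv (h3.trans (one_mul _).symm)
        exact this
      have h5 : (c - 1) * (c - 1) = 0 := by
        have : (c - 1) * (c - 1) = c * c - 2 * c + 1 := by ring
        rw [this, h4, h2]
        have : (1 : F) - 0 * c + 1 = 2 := by ring
        rw [this, h2]
      have h6 : c = 1 := sub_eq_zero.1 (mul_self_eq_zero.1 h5)
      change (g : V ≃ₗ[F] V) v = v
      rw [← hc, h6, one_smul]
    · intro hg
      change (g : V ≃ₗ[F] V) v = v at hg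
      refine ⟨g.2, fun x => ?_⟩
      constructor
      · intro hx
        obtain ⟨c, rfl⟩ := Submodule.mem_span_singleton.1 hx
        rw [map_smul, hg]
        exact Submodule.smul_mem _ _ (Submodule.mem_span_singleton_self v)
      · intro hx
        obtain ⟨c, hc⟩ := Submodule.mem_span_singleton.1 hx
        have h1 : (g : V ≃ₗ[F] V) x = (g : V ≃ₗ[F] V) (c • v) := by rw [map_smul, hg, hc]
        rw [(g : V ≃ₗ[F] V).injective h1]
        exact Submodule.smul_mem _ _ (Submodule.mem_span_singleton_self v)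
  rw [Subgroup.relIndex, h1, MulAction.index_stabilizer]
  congr 1
  ext w
  constructor
  · rintro ⟨g, rfl⟩
    exact mem_O.1 (E_le_O g.2) v
  · intro hw
    obtain ⟨g, hg, h⟩ := hG.trans_norm hv0 (v' := w) (by
      rintro rfl
      apply hv
      rw [← show Q (0 : V) = Q v from hw, QuadraticMap.map_zero]) (Eq.symm hw)
    exact ⟨⟨g, hg⟩, h⟩

theorem dvd_relIndex (hG : Good Q) {p : ℕ} [hp : Fact p.Prime] [CharP F p] {v : V} (hv : Q v ≠ 0)
    (hc : p ∣ {w : V | Q w = Q v}.ncard) : p ∣ (StT Q (Submodule.span F {v})).relIndex (E Q) := by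
  by_cases h2 : (2 : F) = 0
  · rwa [relIndex_StT_two hG h2 hv]
  · rw [← relIndex_StT_nonsing hG h2 hv] at hc
    rcases hp.out.dvd_mul.1 hc with h | h
    · exact h
    · exfalso
      apply h2
      have : ((2 : ℕ) : F) = 0 := (CharP.cast_eq_zero_iff F p 2).2 h
      exact_mod_cast this

end

section

variable {ι : Type} [Fintype ι] [DecidableEq ι] {F : Type*} [Field F] [Finite F]
  {Q : QuadraticForm F (ι → F)}

/-- the stabilizer of `⟨v⟩` in `POmega F Q` -/
noncomputable def D (hG : Good Q) (v : ι → F) : Subgroup (Cfsg.POmega F ⇑Q) :=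
  ((StT Q (Submodule.span F {v})).subgroupOf (E Q)).map (omHom hG)

theorem ker_le (hG : Good Q) (T : Submodule F (ι → F)) : (omHom hG).ker ≤ (StT Q T).subgroupOf (E Q) := by
  rw [omHom_ker]
  intro z hz
  obtain ⟨c, hc⟩ := center_scalar hG hz
  refine ⟨z.2, fun x => ?_⟩
  show x ∈ T ↔ (z : (ι → F) ≃ₗ[F] (ι → F)) x ∈ T
  rw [hc]
  refine ⟨fun hx => T.smul_mem _ hx, fun hx => ?_⟩
  by_cases hc0 : c = 0
  · have h1 : (z : (ι → F) ≃ₗ[F] (ι → F)) x = 0 := by rw [hc, hc0, zero_smul]
    have h2 : x = 0 := (map_eq_zero_iff _ (z : (ι → F) ≃ₗ[F] (ι → F)).injective).1 h1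
    rw [h2]; exact T.zero_mem
  · have h1 := T.smul_mem c⁻¹ hx
    rwa [smul_smul, inv_mul_cancel₀ hc0, one_smul] at h1

theorem omHom_mem_D (hG : Good Q) (v : ι → F) (g : E Q) :
    omHom hG g ∈ D hG v ↔ (g : (ι → F) ≃ₗ[F] (ι → F)) ∈ StT Q (Submodule.span F {v}) := by
  constructor
  · rintro ⟨h, hh, he⟩
    have h1 : h⁻¹ * g ∈ (omHom hG).ker := by
      rw [MonoidHom.mem_ker, map_mul, map_inv, he, inv_mul_cancel]
    have h2 := Subgroup.mul_mem _ hh (ker_le hG (Submodule.span F {v}) h1)
    rw [mul_inv_cancel_left] at h2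
    exact h2
  · intro h
    exact ⟨g, h, rfl⟩

theorem index_D (hG : Good Q) (v : ι → F) :
    (D hG v).index = (StT Q (Submodule.span F {v})).relIndex (E Q) := by
  rw [D, Subgroup.index_map_eq _ (omHom_surjective hG) (ker_le hG _)]
  rfl

theorem isCoatom_D (hG : Good Q) (hd : 7 ≤ Fintype.card ι) {v : ι → F} (hv : Q v ≠ 0) : IsCoatom (D hG v) := by
  have hd' : 7 ≤ Module.finrank F (ι → F) := by rwa [Module.finrank_fintype_fun_eq_card]
  have key : ∀ K : Subgroup (Cfsg.POmega F ⇑Q), D hG v ≤ K → K = D hG v ∨ K = ⊤ := by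
    intro K hK
    set H := (K.comap (omHom hG)).map (E Q).subtype with hH
    have hmem : ∀ g : E Q, (g : (ι → F) ≃ₗ[F] (ι → F)) ∈ H ↔ omHom hG g ∈ K := by
      intro g
      constructor
      · rintro ⟨g', hg', he⟩
        have : g' = g := Subtype.ext he
        rw [← this]
        exact hg'
      · intro hg
        exact ⟨g, hg, rfl⟩
    have hHE : H ≤ E Q := by
      rintro _ ⟨x, -, rfl⟩
      exact x.2
    have hle : StT Q (Submodule.span F {v}) ≤ H := by
      intro g hg
      exact (hmem ⟨g, hg.1⟩).2 (hK ((omHom_mem_D hG v ⟨g, hg.1⟩).2 hg))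
    rcases eq_or_eq hG hd' hv hHE hle with h | h
    · left
      refine le_antisymm ?_ hK
      intro y hy
      obtain ⟨g, rfl⟩ := omHom_surjective hG y
      rw [omHom_mem_D, ← h]
      exact (hmem g).2 hy
    · right
      rw [eq_top_iff]
      intro y _
      obtain ⟨g, rfl⟩ := omHom_surjective hG y
      rw [← hmem, h]
      exact g.2
  refine ⟨?_, fun K hK => ?_⟩
  · intro htop
    apply StT_ne hG hd' hv
    refine le_antisymm (fun g hg => hg.1) fun g hg => ?_
    have := (omHom_mem_D hG v ⟨g, hg⟩).1 (by rw [htop]; exact Subgroup.mem_top _)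
    exact this
  · rcases key K hK.le with h | h
    · exact absurd h hK.ne'
    · exact h

/-- nonsingular points whose values do not differ by a square are not conjugate -/
theorem not_conj_D (hG : Good Q) (hd : 7 ≤ Fintype.card ι) {v v' : ι → F} (hv : Q v ≠ 0) (hv' : Q v' ≠ 0)
    (hsq : ∀ c : F, Q v' ≠ c * c * Q v) (g : Cfsg.POmega F ⇑Q) :
    Subgroup.map (MulAut.conj g).toMonoidHom (D hG v) ≠ D hG v' := by
  intro h
  have hd' : 7 ≤ Module.finrank F (ι → F) := by rwa [Module.finrank_fintype_fun_eq_card]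
  obtain ⟨g, rfl⟩ := omHom_surjective hG g
  have hgv : Q ((g : (ι → F) ≃ₗ[F] (ι → F)) v) = Q v := mem_O.1 (E_le_O g.2) v
  have hle : StT Q (Submodule.span F {(g : (ι → F) ≃ₗ[F] (ι → F)) v}) ≤ StT Q (Submodule.span F {v'}) := by
    intro x hx
    have hx1 := (conj_StT g.2 v).1 hx
    have h1 := (omHom_mem_D hG v (g⁻¹ * ⟨x, hx.1⟩ * g)).2 hx1
    have h2 : omHom hG ⟨x, hx.1⟩ ∈ Subgroup.map (MulAut.conj (omHom hG g)).toMonoidHom (D hG v) := by
      refine ⟨_, h1, ?_⟩
      change omHom hG g * omHom hG (g⁻¹ * ⟨x, hx.1⟩ * g) * (omHom hG g)⁻¹ = _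
      rw [← map_mul, ← map_inv, ← map_mul]
      congr 1
      group
    rw [h] at h2
    exact (omHom_mem_D hG v' ⟨x, hx.1⟩).1 h2
  obtain ⟨c, hc⟩ := mem_span_of_le hG hd' (by rw [hgv]; exact hv) hv' hle
  apply hsq c
  rw [hc, QuadraticMap.map_smul, smul_eq_mul, hgv]

theorem dvd_index_D (hG : Good Q) {p : ℕ} [Fact p.Prime] [CharP F p] {v : ι → F} (hv : Q v ≠ 0)
    (hc : p ∣ {w : ι → F | Q w = Q v}.ncard) : p ∣ (D hG v).index := by
  rw [index_D]
  exact dvd_relIndex hG hv hc

end

end Cfsg.Agent.H79.OmNs
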