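import Mathlib
import Cfsg.Agent.H79.OmNs.Pomega

/-!
# Divisibility of the numbers of vectors of given value
-/

set_option autoImplicit false
set_option linter.unusedSectionVars false

namespace Cfsg.Agent.H79.OmNs

open QuadraticMap Cfsg.Agent.LieClassical.OrthCore Cfsg.Agent.LieClassical.OrthTrans
open Cfsg.Agent.LieClassical.OrthFinite Cfsg.Agent.LieClassical.OrthForms
open Cfsg.Agent.H75.OrthIdx

variable {F : Type*} [Field F] [Fintype F] {p : ℕ} [hp : Fact p.Prime] [CharP F p]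

theorem p_dvd_card : p ∣ Fintype.card F := by
  obtain ⟨n, -, hn⟩ := FiniteField.card F p
  rw [hn]
  exact dvd_pow_self p n.ne_zero

theorem dvd_odd {m : ℕ} (hm : 1 ≤ m) (c : F) :
    p ∣ {v : Unit ⊕ (Fin m ⊕ Fin m) → F | oddForm m F v = c}.ncard := by
  have h := card_odd m c
  rw [Nat.card_eq_fintype_card] at h
  have h1 : p ∣ Fintype.card F ^ m := (p_dvd_card (F := F) (p := p)).trans (dvd_pow_self _ (by omega))
  have h2 : p ∣ Fintype.card F ^ (2 * m) := (p_dvd_card (F := F) (p := p)).trans (dvd_pow_self _ (by omega))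
  have h3 : p ∣ {v : Unit ⊕ (Fin m ⊕ Fin m) → F | oddForm m F v = c}.ncard + Fintype.card F ^ m := by
    rw [h]
    exact dvd_add h2 (Dvd.dvd.mul_left h1 _)
  exact (Nat.dvd_add_left h1).1 h3

theorem dvd_of_mul {q N A B : ℕ} (hq : 0 < q) (hpq : p ∣ q) (h : q * N + q * A = q * B) (hA : q ∣ A) (hB : q ∣ B) :
    p ∣ N := by
  have h1 : N + A = B := by
    have := Nat.eq_of_mul_eq_mul_left hq (by rw [mul_add]; exact h : q * (N + A) = q * B)
    exact this
  have h2 : q ∣ N := (Nat.dvd_add_left hA).1 (by rw [h1]; exact hB)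
  exact hpq.trans h2

theorem dvd_plus {m : ℕ} (hm : 2 ≤ m) {c : F} (hc : c ≠ 0) :
    p ∣ {v : Fin m ⊕ Fin m → F | plusForm m F v = c}.ncard := by
  classical
  have h := Cfsg.Agent.LieClassical.QuadCount.card_plus (F := F) m c
  rw [if_neg hc, add_zero] at h
  obtain ⟨k, rfl⟩ : ∃ k, m = k + 2 := ⟨m - 2, by omega⟩
  have e : {v : Fin (k + 2) ⊕ Fin (k + 2) → F | plusForm (k + 2) F v = c}.ncard =
      Nat.card {v : Fin (k + 2) ⊕ Fin (k + 2) → F // Cfsg.quadFormPlus (k + 2) F v = c} := by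
    rw [← coe_plusForm]
    rfl
  rw [e]
  refine dvd_of_mul (q := Fintype.card F) (A := Fintype.card F ^ (k + 1)) (B := Fintype.card F ^ (2 * k + 3))
    Fintype.card_pos p_dvd_card ?_ ?_ ?_
  · rw [← pow_succ', ← pow_succ']
    exact h
  · exact dvd_pow_self _ (by omega)
  · exact dvd_pow_self _ (by omega)

theorem dvd_minus {m : ℕ} (hm : 1 ≤ m) (a b : F) (c : F) :
    p ∣ {v : (Fin m ⊕ Fin m) ⊕ Fin 2 → F | minusForm m F a b v = c}.ncard := by
  classical
  have h := Cfsg.Agent.LieClassical.QuadCount.card_sum (F := F) (W := Fin 2 → F) m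
    (fun w => w 0 ^ 2 + a * w 0 * w 1 + b * w 1 ^ 2 - c)
  have hcard : {v : (Fin m ⊕ Fin m) ⊕ Fin 2 → F | minusForm m F a b v = c}.ncard
      = Nat.card {p : (Fin m ⊕ Fin m → F) × (Fin 2 → F) //
          Cfsg.quadFormPlus m F p.1 + (p.2 0 ^ 2 + a * p.2 0 * p.2 1 + b * p.2 1 ^ 2 - c) = 0} := by
    refine Nat.card_congr ((Equiv.sumArrowEquivProdArrow (Fin m ⊕ Fin m) (Fin 2) F).subtypeEquiv ?_)
    intro v
    show minusForm m F a b v = c ↔ (∑ i : Fin m, v (.inl (.inl i)) * v (.inl (.inr i))) +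
      (v (.inr 0) ^ 2 + a * v (.inr 0) * v (.inr 1) + b * v (.inr 1) ^ 2 - c) = 0
    rw [coe_minusForm, quadFormMinus_apply]
    constructor
    · intro h; linear_combination h
    · intro h; linear_combination h
  rw [← hcard, Fintype.card_fun, Fintype.card_fin] at h
  obtain ⟨k, rfl⟩ : ∃ k, m = k + 1 := ⟨m - 1, by omega⟩
  set q := Fintype.card F
  refine dvd_of_mul (q := q) (A := q * q ^ (k + 1)) (B := q * q ^ (2 * (k + 1)) +
      Nat.card {w : Fin 2 → F // w 0 ^ 2 + a * w 0 * w 1 + b * w 1 ^ 2 - c = 0} * q ^ (k + 1))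
    Fintype.card_pos p_dvd_card ?_ ?_ ?_
  · linear_combination h
  · exact Dvd.intro _ rfl
  · refine dvd_add (Dvd.intro _ rfl) (Dvd.dvd.mul_left (dvd_pow_self _ (by omega)) _)

end Cfsg.Agent.H79.OmNs
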