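import Mathlib
import Cfsg.Agent.H436.Ppd
import Cfsg.Agent.H940.SepTyp

/-!
# Primitive prime divisors and irreducibility; unipotent radicals

* `irred_of_prim` : an element of order `r` of `GL_n(q)`, `r` a primitive prime divisor of `q ^ n - 1`, is irreducible;
* `exists_radical` : a proper subgroup which contains a Borel subgroup normalizes a nontrivial `p`-subgroup;
* `exists_invariant` : a group of linear maps which normalizes a nontrivial `p`-group is reducible.
-/

set_option autoImplicit false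
set_option linter.unusedSectionVars false

namespace Cfsg.Agent.H79.OmNs

open Cfsg.Agent.H436

section

variable {F V : Type*} [Field F] [Finite F] [AddCommGroup V] [Module F V] [FiniteDimensional F V]

/-- counting fixed points -/
theorem card_fix {r : ℕ} [Fact r.Prime] {g : V ≃ₗ[F] V} (hg : g ^ r = 1) (W : Submodule F V)
    (hW : ∀ x ∈ W, g x ∈ W) : Nat.card W ≡ Nat.card {x : W // g x = x} [MOD r] := by
  classical
  have hV : Finite V := Module.finite_of_finite F
  have : Fintype W := Fintype.ofFinite W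
  let f : Function.End W := fun x => ⟨g x, hW x x.2⟩
  have hf : ∀ (k : ℕ) (x : W), (((f ^ k : Function.End W) x : W) : V) = (g ^ k) (x : V) := by
    intro k
    induction k with
    | zero => intro x; rfl
    | succ k ih =>
      intro x
      rw [pow_succ, pow_succ]
      change (((f ^ k : Function.End W) (f x) : W) : V) = (g ^ k) (g x)
      rw [ih]
  have h1 : f ^ r ^ 1 = 1 := by
    funext x
    apply Subtype.ext
    rw [pow_one, hf, hg]
    rfl
  have h2 := Equiv.Perm.card_fixedPoints_modEq (p := r) (n := 1) h1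
  rw [Nat.card_eq_fintype_card]
  refine h2.trans ?_
  rw [← Nat.card_eq_fintype_card]
  have h3 : Nat.card (Function.fixedPoints f) = Nat.card {x : W // g x = x} := by
    refine Nat.card_congr (Equiv.subtypeEquivRight fun x => ?_)
    constructor
    · intro hx
      exact congrArg Subtype.val hx
    · intro hx
      exact Subtype.ext hx
  rw [h3]

/-- **an element of primitive prime order is irreducible** -/
theorem irred_of_prim {q n r : ℕ} (hr : Prim q n r) (hq : Nat.card F = q) (hn : Module.finrank F V = n)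
    {g : V ≃ₗ[F] V} (hg : orderOf g = r) (W : Submodule F V) (hW : ∀ x ∈ W, g x ∈ W) :
    W = ⊥ ∨ W = ⊤ := by
  have hrp : Fact r.Prime := ⟨hr.prime⟩
  have hV : Finite V := Module.finite_of_finite F
  have hgr : g ^ r = 1 := by rw [← hg]; exact pow_orderOf_eq_one g
  have hq1 : 1 ≤ q := by rw [← hq]; exact Nat.card_pos
  -- the fixed space
  let K : Submodule F V := LinearMap.ker ((g : V →ₗ[F] V) - LinearMap.id)
  have hK : ∀ x, x ∈ K ↔ g x = x := by
    intro x
    rw [LinearMap.mem_ker, LinearMap.sub_apply, LinearMap.id_apply, sub_eq_zero]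
    rfl
  have hcardW : ∀ U : Submodule F V, Nat.card U = q ^ Module.finrank F U := by
    intro U
    rw [Module.natCard_eq_pow_finrank (K := F), hq]
  have hmod : ∀ {a b : ℕ}, b ≤ a → q ^ a ≡ q ^ b [MOD r] → n ∣ a - b := by
    intro a b hba h
    have h1 : r ∣ q ^ a - q ^ b := (Nat.modEq_iff_dvd' (Nat.pow_le_pow_right hq1 hba)).1 h.symm
    have h2 : q ^ a - q ^ b = q ^ b * (q ^ (a - b) - 1) := by
      rw [Nat.mul_sub, mul_one, ← pow_add, Nat.add_sub_cancel' hba]
    rw [h2] at h1
    rcases hr.prime.dvd_mul.1 h1 with h3 | h3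
    · exact absurd h3 (hr.not_dvd_pow b)
    · exact (hr.dvd_iff _).1 h3
  have hKtop : K ≠ ⊤ := by
    intro h
    have h1 : g = 1 := by
      ext x
      have : x ∈ K := by rw [h]; trivial
      exact (hK x).1 this
    rw [h1, orderOf_one] at hg
    exact hr.prime.one_lt.ne hg
  have hKlt : Module.finrank F K < n := by
    rw [← hn]
    exact Submodule.finrank_lt hKtop
  have hKbot : K = ⊥ := by
    have h1 := card_fix hgr ⊤ (fun _ _ => trivial)
    have h2 : Nat.card {x : (⊤ : Submodule F V) // g x = x} = Nat.card K := by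
      refine Nat.card_congr ⟨fun x => ⟨x.1.1, (hK _).2 x.2⟩, fun x => ⟨⟨x.1, trivial⟩, (hK _).1 x.2⟩,
        fun _ => rfl, fun _ => rfl⟩
    rw [h2, hcardW, hcardW, finrank_top, hn] at h1
    have h3 := hmod hKlt.le h1
    have h4 : Module.finrank F K = 0 := by
      by_contra h5
      have h6 := Nat.le_of_dvd (by omega) h3
      omega
    exact Submodule.finrank_eq_zero.1 h4
  have h1 := card_fix hgr W hW
  have h2 : Nat.card {x : W // g x = x} = 1 := by
    rw [Nat.card_eq_one_iff_exists]
    refine ⟨⟨0, map_zero g⟩, ?_⟩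
    rintro ⟨x, hx⟩
    apply Subtype.ext
    apply Subtype.ext
    have : (x : V) ∈ K := (hK _).2 hx
    rw [hKbot, Submodule.mem_bot] at this
    exact this
  rw [h2, hcardW, ← pow_zero q] at h1
  have h3 := hmod (Nat.zero_le _) h1
  rw [Nat.sub_zero] at h3
  by_cases h4 : Module.finrank F W = 0
  · left
    exact Submodule.finrank_eq_zero.1 h4
  · right
    apply Submodule.eq_top_of_finrank_eq
    refine le_antisymm (Submodule.finrank_le W) ?_
    rw [hn]
    exact Nat.le_of_dvd (Nat.pos_of_ne_zero h4) h3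

/-- a group of linear maps which normalizes a nontrivial `p`-group, `p` the characteristic, is reducible -/
theorem exists_invariant {p : ℕ} [Fact p.Prime] [CharP F p] {P : Subgroup (V ≃ₗ[F] V)} (hP : IsPGroup p P)
    (hne : P ≠ ⊥) : ∃ W : Submodule F V, W ≠ ⊥ ∧ W ≠ ⊤ ∧
      ∀ g : V ≃ₗ[F] V, (∀ x ∈ P, g⁻¹ * x * g ∈ P) → ∀ x ∈ W, g x ∈ W := by
  have hV : Finite V := Module.finite_of_finite F
  have : Nontrivial V := by
    by_contra hcon
    rw [not_nontrivial_iff_subsingleton] at hcon
    apply hne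
    rw [Subgroup.eq_bot_iff_forall]
    intro x _
    ext v
    exact Subsingleton.elim _ _
  let W : Submodule F V :=
    { carrier := {v | ∀ x ∈ P, x v = v}
      add_mem' := fun {a b} ha hb x hx => by rw [map_add, ha x hx, hb x hx]
      zero_mem' := fun x _ => map_zero x
      smul_mem' := fun c a ha x hx => by rw [map_smul, ha x hx] }
  have hW : ∀ v, v ∈ W ↔ ∀ x ∈ P, x v = v := fun v => Iff.rfl
  refine ⟨W, ?_, ?_, ?_⟩
  · have hd : p ∣ Nat.card V := by
      rw [Module.natCard_eq_pow_finrank (K := F)]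
      have h1 : p ∣ Nat.card F := by
        have := Fintype.ofFinite F
        obtain ⟨k, -, hk⟩ := FiniteField.card F p
        rw [Nat.card_eq_fintype_card, hk]
        exact dvd_pow_self p k.ne_zero
      exact h1.trans (dvd_pow_self _ (Module.finrank_pos (R := F) (M := V)).ne')
    obtain ⟨b, hb, hb0⟩ := hP.exists_fixed_point_of_prime_dvd_card_of_fixed_point V hd
      (a := (0 : V)) (fun x => smul_zero x)
    intro h
    have h1 : b ∈ W := fun x hx => hb ⟨x, hx⟩
    rw [h, Submodule.mem_bot] at h1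
    exact hb0 h1.symm
  · intro h
    apply hne
    rw [Subgroup.eq_bot_iff_forall]
    intro x hx
    ext v
    have : v ∈ W := by rw [h]; trivial
    exact this x hx
  · intro g hg v hv x hx
    have h1 := hv _ (hg x hx)
    change g⁻¹ (x (g v)) = v at h1
    have h2 : g (g⁻¹ (x (g v))) = x (g v) := LinearEquiv.apply_symm_apply g _
    rw [h1] at h2
    exact h2.symm

end

section

open Subgroup Cfsg.Agent.H940 Cfsg.Agent.H940.MaxCls Cfsg.Agent.Omega.ML.Ex.Typ Cfsg.Agent.H744.SepRgd
open CoxeterSystem Cfsg.Agent.ChevalleyStructure.CoxeterGeom Cfsg.Agent.Tits.Roots Cfsg.Agent.Tits.Core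
  Cfsg.Agent.Tits.RootComb Cfsg.Agent.Tits.Exchange Cfsg.Agent.Nodes.Reps Cfsg.Agent.Nodes.BNOf
  Cfsg.Agent.Nodes.StabComb Cfsg.Agent.Nodes.Bruhat Cfsg.Agent.Nodes.OppDec Cfsg.Agent.Nodes.LeviDec
  Cfsg.Agent.KFacts.RgdAut Cfsg.Agent.H940.SepTyp

/-- **a proper subgroup which contains a Borel subgroup normalizes a nontrivial `p`-subgroup** -/
theorem exists_radical {p l : ℕ} [Fact p.Prime] {M : CoxeterMatrix (Fin l)} {G : Type*} [Group G] [Finite G]
    (hG : HasRGDT p M G) (S : Sylow p G) {K : Subgroup G} (hS : normalizer ((S : Subgroup G) : Set G) ≤ K)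
    (hne : K ≠ ⊤) : ∃ V : Subgroup G, V ≠ ⊥ ∧ IsPGroup p V ∧ K ≤ normalizer (V : Set G) := by
  obtain ⟨A, h, T, n, X, hW, R, hX⟩ := hG
  have hGG := Cfsg.Agent.KFacts.RgdFilt.GG_eq_top (T := T) hX
  set U : Subgroup G := RGD.Sup X (RGD.Pos M.toCoxeterSystem h) with hU
  have hpU : IsPGroup p ↥U := R.isPGroup_Upos
  have hndvd : ¬ p ∣ U.index := by
    have := KFacts.RgdSyl.not_dvd_relIndex R
    rwa [hGG, Subgroup.relIndex_top_right] at this
  obtain ⟨P, hP⟩ : ∃ P : Sylow p G, (P : Subgroup G) = U := ⟨hpU.toSylow hndvd, rfl⟩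
  -- conjugate `S` to `P`
  obtain ⟨g, hg⟩ := MulAction.exists_smul_eq G S P
  have hB : RGD.B M.toCoxeterSystem h T X ≤ Subgroup.map (MulAut.conj g).toMonoidHom K := by
    intro b hb
    rw [mem_map_conj]
    apply hS
    refine conj_normalizer S ?_
    rw [hg, hP]
    exact R.B_le_normalizer_U hb
  set K' : Subgroup G := Subgroup.map (MulAut.conj g).toMonoidHom K with hK'
  have hne' : K' ≠ ⊤ := by
    intro h1
    apply hne
    rw [eq_top_iff]
    intro x _
    have h2 : g * x * g⁻¹ ∈ K' := by rw [h1]; exact mem_top _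
    rw [hK', mem_map_conj] at h2
    have e : g⁻¹ * (g * x * g⁻¹) * g = x := by group
    rwa [e] at h2
  have hPJ := eq_PJ_of_B_le R hGG hB
  set J : Set (Fin l) := {i | n i ∈ K'} with hJ
  have hJne : J ≠ Set.univ := by
    intro h1
    apply hne'
    rw [hPJ, PJ_eq_top_iff R hGG]
    exact h1
  obtain ⟨i, hi⟩ : ∃ i, i ∉ J := by
    by_contra hcon
    push Not at hcon
    exact hJne (Set.eq_univ_of_forall hcon)
  -- the radical
  have hVne : VJ M.toCoxeterSystem h X J ≠ ⊥ := by
    intro h1
    apply X_ne_bot R (isRoot_sr M.toCoxeterSystem h i)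
    rw [eq_bot_iff, ← h1]
    refine RGD.le_Sup ⟨isRoot_sr _ _ _, ?_, i, hi, ?_⟩
    · intro k
      by_cases hk : k = i
      · subst hk; simp [sr]
      · simp [sr, hk]
    · simp [sr]
  have hVp : IsPGroup p ↥(VJ M.toCoxeterSystem h X J) := hpU.to_le (VJ_le_U J)
  have hVn : K' ≤ normalizer (VJ M.toCoxeterSystem h X J : Set G) := by
    rw [hPJ]
    exact PJ_le_normalizer_VJ R J
  refine ⟨Subgroup.map (MulAut.conj g⁻¹).toMonoidHom (VJ M.toCoxeterSystem h X J), ?_, hVp.map _, ?_⟩
  · rw [Ne, Subgroup.map_eq_bot_iff_of_injective _ (MulAut.conj g⁻¹).injective]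
    exact hVne
  · intro x hx
    have h1 : g * x * g⁻¹ ∈ K' := by
      rw [hK', mem_map_conj]
      have e : g⁻¹ * (g * x * g⁻¹) * g = x := by group
      rwa [e]
    have h2 := hVn h1
    rw [mem_normalizer_iff] at h2 ⊢
    intro y
    rw [mem_map_conj, mem_map_conj, inv_inv]
    have h3 := h2 (g * y * g⁻¹)
    have e : g * x * g⁻¹ * (g * y * g⁻¹) * (g * x * g⁻¹)⁻¹ = g * (x * y * x⁻¹) * g⁻¹ := by group
    rw [e] at h3
    exact h3

end

end Cfsg.Agent.H79.OmNs
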