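import Mathlib
import Cfsg.Agent.H79.OmNs.Counts
import Cfsg.Agent.H940.SepTyp
import Cfsg.Agent.H410.Types
import Cfsg.Agent.LieClassical.PomegaCard

/-!
# Orthogonal groups: at least five classes of maximal subgroups
-/

set_option autoImplicit false
set_option linter.unusedSectionVars false

namespace Cfsg.Agent.H79.OmNs

open QuadraticMap Cfsg.Agent.LieClassical.OrthCore Cfsg.Agent.LieClassical.OrthTrans
open Cfsg.Agent.LieClassical.OrthFinite Cfsg.Agent.LieClassical.OrthForms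
open Cfsg.Agent.H75.OrthIdx Cfsg.Agent.H940 Cfsg.Agent.H940.MaxCls Cfsg.Agent.H940.SepTyp
open Cfsg.Agent.Omega.ML.Ex.Typ

variable {F : Type} [Field F] [Fintype F]

theorem finite_pomega {ι : Type} [Fintype ι] [DecidableEq ι] {Q : QuadraticForm F (ι → F)} (hG : Good Q) :
    Finite (Cfsg.POmega F ⇑Q) := by
  have h1 : Finite ((ι → F) ≃ₗ[F] (ι → F)) :=
    Finite.of_injective (fun e : (ι → F) ≃ₗ[F] (ι → F) => (e : (ι → F) → (ι → F))) DFunLike.coe_injective
  have h2 : Finite (E Q) := inferInstance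
  exact Finite.of_surjective _ (omHom_surjective hG)

/-- one nonsingular point -/
theorem sep_one {ι : Type} [Fintype ι] [DecidableEq ι] {Q : QuadraticForm F (ι → F)} (hG : Good Q)
    (hd : 7 ≤ Fintype.card ι) {p l : ℕ} [Fact p.Prime] [CharP F p] {M : CoxeterMatrix (Fin l)}
    (hK : HasRGDT p M (Cfsg.POmega F ⇑Q))
    (hc : ∀ c : F, c ≠ 0 → p ∣ {w : ι → F | Q w = c}.ncard) {v : ι → F} (hv : Q v ≠ 0) :
    MaxCls.Sep (l + 1) (Cfsg.POmega F ⇑Q) := by
  have : Finite (Cfsg.POmega F ⇑Q) := finite_pomega hG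
  refine sep_typ_coatoms hK ![D hG v] (fun i => ?_) (fun i j hij => ?_) (fun i => ?_)
  · rw [Subsingleton.elim i 0]
    exact isCoatom_D hG hd hv
  · exact absurd hij (by rw [Subsingleton.elim i j]; exact lt_irrefl _)
  · rw [Subsingleton.elim i 0]
    exact dvd_index_D hG hv (hc _ hv)

/-- two nonsingular points, odd characteristic -/
theorem sep_two' {ι : Type} [Fintype ι] [DecidableEq ι] {Q : QuadraticForm F (ι → F)} (hG : Good Q)
    (h2 : (2 : F) ≠ 0) (hd : 7 ≤ Fintype.card ι) {p l : ℕ} [Fact p.Prime] [CharP F p]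
    {M : CoxeterMatrix (Fin l)} (hK : HasRGDT p M (Cfsg.POmega F ⇑Q))
    (hc : ∀ c : F, c ≠ 0 → p ∣ {w : ι → F | Q w = c}.ncard) :
    MaxCls.Sep (l + 2) (Cfsg.POmega F ⇑Q) := by
  have : Finite (Cfsg.POmega F ⇑Q) := finite_pomega hG
  -- a nonsquare
  have hchar : ringChar F ≠ 2 := by
    intro h
    apply h2
    have : CharP F 2 := ringChar.of_eq h
    exact CharTwo.two_eq_zero
  obtain ⟨s, hs⟩ := FiniteField.exists_nonsquare hchar
  obtain ⟨x, y, hxy⟩ := hG.exists_hyp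
  have hval : ∀ c : F, Q (x + c • y) = c := by
    intro c
    rw [Q_add, hxy.left, QuadraticMap.map_smul, hxy.right, polar_smul_right, hxy.pair]
    simp
  have hs0 : s ≠ 0 := by
    rintro rfl
    exact hs ⟨0, (mul_zero 0).symm⟩
  have hv1 : Q (x + (1 : F) • y) ≠ 0 := by rw [hval]; exact one_ne_zero
  have hv2 : Q (x + s • y) ≠ 0 := by rw [hval]; exact hs0
  refine sep_typ_coatoms hK ![D hG (x + (1 : F) • y), D hG (x + s • y)] (fun i => ?_) (fun i j hij g => ?_)
    (fun i => ?_)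
  · fin_cases i
    · exact isCoatom_D hG hd hv1
    · exact isCoatom_D hG hd hv2
  · have hi : i = 0 ∧ j = 1 := by
      fin_cases i <;> fin_cases j <;> simp_all
    obtain ⟨rfl, rfl⟩ := hi
    refine not_conj_D hG hd hv1 hv2 (fun c hc => hs ⟨c, ?_⟩) g
    rw [hval, hval, mul_one] at hc
    exact hc
  · fin_cases i
    · exact dvd_index_D hG hv1 (hc _ hv1)
    · exact dvd_index_D hG hv2 (hc _ hv2)

theorem exists_char (F : Type) [Field F] [Fintype F] : ∃ p : ℕ, Fact p.Prime ∧ CharP F p := by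
  obtain ⟨p, hp⟩ := CharP.exists F
  exact ⟨p, ⟨CharP.char_is_prime F p⟩, hp⟩

/-- **the row of the odd dimensional orthogonal groups** -/
theorem oodd {G : Type} [Group G] (h : Cfsg.IsPOmegaOdd G) : MaxCls.Sep 5 G := by
  obtain ⟨F, _, _, m, hm, hodd, ⟨e⟩⟩ := h
  have h2 : (2 : F) ≠ 0 := Cfsg.Agent.LieClassical.PomegaCard.odd_card_iff.1 hodd
  obtain ⟨p, _, _⟩ := exists_char F
  have hG := good_oddForm (F := F) m hm h2
  have hT : HasRGDT p (CoxeterMatrix.B m) (Cfsg.POmega F ⇑(oddForm m F)) := by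
    rw [coe_oddForm]
    exact Cfsg.Agent.H410.Types.typ_PO_odd h2 (by omega)
  have h1 : MaxCls.Sep (m + 2) (Cfsg.POmega F ⇑(oddForm m F)) := by
    refine sep_two' hG h2 ?_ hT (fun c _ => dvd_odd (by omega) c)
    simp only [Fintype.card_sum, Fintype.card_unit, Fintype.card_fin]
    omega
  have h3 : MaxCls.Sep 5 (Cfsg.POmega F ⇑(oddForm m F)) := h1.mono (by omega)
  rw [coe_oddForm] at h3
  exact h3.of_mulEquiv e.symm

/-- **the row of the orthogonal groups of plus type** -/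
theorem oplus {G : Type} [Group G] (h : Cfsg.IsPOmegaPlus G) : MaxCls.Sep 5 G := by
  obtain ⟨F, _, _, m, hm, ⟨e⟩⟩ := h
  obtain ⟨n, rfl⟩ : ∃ n, m = n + 3 := ⟨m - 3, by omega⟩
  obtain ⟨p, _, _⟩ := exists_char F
  have hcard : Fintype.card (Fin (n + 3) ⊕ Fin (n + 3)) = 2 * (n + 3) := by
    rw [Fintype.card_sum, Fintype.card_fin]; omega
  have hG : Good (plusForm (n + 3) F) := good_of_finite (nondeg_plusForm (n + 3) F) (by
    rw [Module.finrank_fintype_fun_eq_card, hcard]; omega)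
  have hT : HasRGDT p (Nodes.TypeD.M (n + 1)) (Cfsg.POmega F ⇑(plusForm (n + 3) F)) := by
    rw [coe_plusForm]
    exact typ_PO_plus n
  obtain ⟨x, y, hxy⟩ := hG.exists_hyp
  have hval : plusForm (n + 3) F (x + y) ≠ 0 := by
    rw [Q_add, hxy.left, hxy.right, hxy.pair]
    simp
  have h1 := sep_one hG (by rw [hcard]; omega) hT (fun c hc => dvd_plus (by omega) hc) hval
  have h3 : MaxCls.Sep 5 (Cfsg.POmega F ⇑(plusForm (n + 3) F)) := h1.mono (by omega)
  rw [coe_plusForm] at h3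
  exact h3.of_mulEquiv e.symm

/-- the minus type groups, apart from `Ω₈⁻(q)`, `q` even -/
theorem ominus_of {G : Type} [Group G] (h8 : ∀ (F : Type) [Field F] [Fintype F] (a b : F), (2 : F) = 0 →
      (∀ z₁ z₂ : F, z₁ ^ 2 + a * z₁ * z₂ + b * z₂ ^ 2 = 0 → z₁ = 0 ∧ z₂ = 0) →
      MaxCls.Sep 5 (Cfsg.POmega F (Cfsg.quadFormMinus 3 F a b))) (h : Cfsg.IsPOmegaMinus G) : MaxCls.Sep 5 G := by
  obtain ⟨F, _, _, m, a, b, hm, hab, ⟨e⟩⟩ := h
  obtain ⟨n, rfl⟩ : ∃ n, m = n + 1 := ⟨m - 1, by omega⟩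
  change G ≃* Cfsg.POmega F (Cfsg.quadFormMinus n F a b) at e
  obtain ⟨p, _, _⟩ := exists_char F
  have hcard : Fintype.card ((Fin n ⊕ Fin n) ⊕ Fin 2) = 2 * n + 2 := by
    rw [Fintype.card_sum, Fintype.card_sum, Fintype.card_fin, Fintype.card_fin]; omega
  have hG : Good (minusForm n F a b) := good_of_finite (nondeg_minusForm n F a b hab) (by
    rw [Module.finrank_fintype_fun_eq_card, hcard]; omega)
  have hT : HasRGDT p (CoxeterMatrix.B n) (Cfsg.POmega F ⇑(minusForm n F a b)) := by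
    rw [coe_minusForm]
    exact typ_PO_minus hab (by omega)
  by_cases h2 : (2 : F) = 0
  · by_cases hn3 : n = 3
    · subst hn3
      exact (h8 F a b h2 hab).of_mulEquiv e.symm
    · obtain ⟨x, y, hxy⟩ := hG.exists_hyp
      have hval : minusForm n F a b (x + y) ≠ 0 := by
        rw [Q_add, hxy.left, hxy.right, hxy.pair]
        simp
      have h1 := sep_one hG (by rw [hcard]; omega) hT (fun c _ => dvd_minus (by omega) a b c) hval
      have h3 : MaxCls.Sep 5 (Cfsg.POmega F ⇑(minusForm n F a b)) := h1.mono (by omega)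
      rw [coe_minusForm] at h3
      exact h3.of_mulEquiv e.symm
  · have h1 := sep_two' hG h2 (by rw [hcard]; omega) hT (fun c _ => dvd_minus (by omega) a b c)
    have h3 : MaxCls.Sep 5 (Cfsg.POmega F ⇑(minusForm n F a b)) := h1.mono (by omega)
    rw [coe_minusForm] at h3
    exact h3.of_mulEquiv e.symm

end Cfsg.Agent.H79.OmNs
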