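import Mathlib
import Cfsg.Agent.H79.OmNs.Rows
import Cfsg.Agent.H79.OmNs.Irr
import Cfsg.Agent.S0294

/-!
# `Ω₈⁻(q)`, `q` even: at least five classes of maximal subgroups

Three parabolic subgroups, the stabilizer of a nonsingular point, and a group of order `r`, `r` a primitive prime
divisor of `q ^ 8 - 1`.
-/

set_option autoImplicit false
set_option linter.unusedSectionVars false

namespace Cfsg.Agent.H79.OmNs

open QuadraticMap Cfsg.Agent.LieClassical.OrthCore Cfsg.Agent.LieClassical.OrthTrans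
open Cfsg.Agent.LieClassical.OrthFinite Cfsg.Agent.LieClassical.OrthForms
open Cfsg.Agent.H75.OrthIdx Cfsg.Agent.H940 Cfsg.Agent.H940.MaxCls Cfsg.Agent.H940.SepTyp
open Cfsg.Agent.Omega.ML.Ex.Typ Cfsg.Agent.H436

section

variable {ι : Type} [Fintype ι] [DecidableEq ι] {F : Type} [Field F] [Fintype F]
  {Q : QuadraticForm F (ι → F)}

theorem omHom_injective (hG : Good Q) (h2 : (2 : F) = 0) : Function.Injective (omHom hG) := by
  rw [← MonoidHom.ker_eq_bot_iff, omHom_ker, Subgroup.eq_bot_iff_forall]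
  intro z hz
  obtain ⟨c, hc⟩ := center_scalar hG hz
  obtain ⟨x, y, hxy⟩ := hG.exists_hyp
  have h1 : Q ((z : (ι → F) ≃ₗ[F] (ι → F)) (x + y)) = Q (x + y) := mem_O.1 (E_le_O z.2) _
  have hval : Q (x + y) = 1 := by
    rw [Q_add, hxy.left, hxy.right, hxy.pair]; simp
  rw [hc, QuadraticMap.map_smul, hval, smul_eq_mul, mul_one] at h1
  have h5 : (c - 1) * (c - 1) = 0 := by
    have : (c - 1) * (c - 1) = c * c - 2 * c + 1 := by ring
    rw [this, h1, h2]
    have : (1 : F) - 0 * c + 1 = 2 := by ring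
    rw [this, h2]
  have h6 : c = 1 := sub_eq_zero.1 (mul_self_eq_zero.1 h5)
  apply Subtype.ext
  apply LinearEquiv.ext
  intro v
  rw [hc, h6, one_smul]
  rfl

/-- one nonsingular point and one irreducible element of prime order, characteristic two -/
theorem sep_irr (hG : Good Q) (h2 : (2 : F) = 0) (hd : 7 ≤ Fintype.card ι) {p l : ℕ} [hp : Fact p.Prime]
    [CharP F p] {M : CoxeterMatrix (Fin l)} (hK : HasRGDT p M (Cfsg.POmega F ⇑Q))
    (hc : ∀ c : F, c ≠ 0 → p ∣ {w : ι → F | Q w = c}.ncard) {v : ι → F} (hv : Q v ≠ 0) {r : ℕ}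
    (hr : Prim (Nat.card F) (Fintype.card ι) r) (hrG : r ∣ Nat.card (Cfsg.POmega F ⇑Q)) :
    MaxCls.Sep (l + 2) (Cfsg.POmega F ⇑Q) := by
  have hfin : Finite (Cfsg.POmega F ⇑Q) := finite_pomega hG
  have hrp : Fact r.Prime := ⟨hr.prime⟩
  obtain ⟨x, hx⟩ := exists_prime_orderOf_dvd_card' r hrG
  obtain ⟨g, rfl⟩ := omHom_surjective hG x
  have hinj := omHom_injective hG h2
  have hg : orderOf (g : (ι → F) ≃ₗ[F] (ι → F)) = r := by
    rw [Subgroup.orderOf_coe, ← hx]
    exact (orderOf_injective (omHom hG) hinj g).symm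
  -- conjugates are irreducible
  have hirr : ∀ (h : E Q) (W : Submodule F (ι → F)),
      (∀ y ∈ W, ((h * g * h⁻¹ : E Q) : (ι → F) ≃ₗ[F] (ι → F)) y ∈ W) → W = ⊥ ∨ W = ⊤ := by
    intro h W hW
    refine irred_of_prim hr rfl (Module.finrank_fintype_fun_eq_card F)
      (g := ((h * g * h⁻¹ : E Q) : (ι → F) ≃ₗ[F] (ι → F))) ?_ W hW
    rw [← hg]
    change orderOf ((h : (ι → F) ≃ₗ[F] (ι → F)) * g * (h : (ι → F) ≃ₗ[F] (ι → F))⁻¹) = _
    have e := orderOf_injective (MulAut.conj (h : (ι → F) ≃ₗ[F] (ι → F))).toMonoidHom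
      (MulAut.conj (h : (ι → F) ≃ₗ[F] (ι → F))).injective (g : (ι → F) ≃ₗ[F] (ι → F))
    exact e
  obtain ⟨S⟩ : Nonempty (Sylow p (Cfsg.POmega F ⇑Q)) := inferInstance
  have hpr : p ≠ r := by
    rintro rfl
    apply hr.not_dvd
    rw [Nat.card_eq_fintype_card]
    exact p_dvd_card
  have hidx : p ∣ (D hG v).index := dvd_index_D hG hv (hc _ hv)
  have hd' : 1 < Fintype.card ι := by omega
  refine sep_typ_coatoms_succ hK S ![D hG v] (fun i => ?_) (fun i j hij => ?_) (fun i => ?_)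
    (E := Subgroup.zpowers (omHom hG g)) ?_ (fun i y => ?_) ?_
  · rw [Subsingleton.elim i 0]
    exact isCoatom_D hG hd hv
  · exact absurd hij (by rw [Subsingleton.elim i j]; exact lt_irrefl _)
  · rw [Subsingleton.elim i 0]
    exact hidx
  · intro htop
    have h1 : Nat.card (Cfsg.POmega F ⇑Q) = r := by
      rw [← Subgroup.card_top, ← htop, Nat.card_zpowers, hx]
    have h3 : p ∣ r := by
      rw [← h1, ← (D hG v).card_mul_index]
      exact Dvd.dvd.mul_left hidx _
    exact hpr ((Nat.prime_dvd_prime_iff_eq hp.out hrp.out).1 h3)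
  · rw [Subsingleton.elim i 0]
    obtain ⟨h, rfl⟩ := omHom_surjective hG y
    refine ⟨omHom hG g, Subgroup.mem_zpowers _, ?_⟩
    intro hmem
    have e : omHom hG h * omHom hG g * (omHom hG h)⁻¹ = omHom hG (h * g * h⁻¹) := by
      rw [map_mul, map_mul, map_inv]
    rw [e] at hmem
    have h3 := (omHom_mem_D hG v _).1 hmem
    rcases hirr h _ (fun y hy => (h3.2 y).1 hy) with h4 | h4
    · rw [Submodule.span_singleton_eq_bot] at h4
      rw [h4, QuadraticMap.map_zero] at hv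
      exact hv rfl
    · have h5 := finrank_span_singleton (K := F) (v := v) (by
        rintro rfl
        exact hv (QuadraticMap.map_zero Q))
      rw [h4, finrank_top, Module.finrank_fintype_fun_eq_card] at h5
      omega
  · intro y K hS hE
    by_contra hne
    obtain ⟨P, hP, hpP, hKP⟩ := exists_radical hK S hS hne
    obtain ⟨h, rfl⟩ := omHom_surjective hG y
    -- the preimage of the radical
    set P' : Subgroup ((ι → F) ≃ₗ[F] (ι → F)) := (P.comap (omHom hG)).map (E Q).subtype with hP'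
    have hmemP : ∀ a : E Q, (a : (ι → F) ≃ₗ[F] (ι → F)) ∈ P' ↔ omHom hG a ∈ P := by
      intro a
      constructor
      · rintro ⟨a', ha', he⟩
        have : a' = a := Subtype.ext he
        rw [← this]
        exact ha'
      · intro ha
        exact ⟨a, ha, rfl⟩
    have hpP' : IsPGroup p P' := by
      refine IsPGroup.map ?_ _
      exact IsPGroup.comap_of_injective hpP (omHom hG) hinj
    have hneP : P' ≠ ⊥ := by
      intro h1
      apply hP
      rw [Subgroup.eq_bot_iff_forall]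
      intro z hz
      obtain ⟨a, rfl⟩ := omHom_surjective hG z
      have h4 := (hmemP a).2 hz
      rw [h1, Subgroup.mem_bot] at h4
      have h5 : a = 1 := Subtype.ext h4
      rw [h5, map_one]
    obtain ⟨W, hW0, hW1, hW⟩ := exists_invariant (p := p) hpP' hneP
    have hk : omHom hG (h * g * h⁻¹) ∈ K := by
      have := hE (omHom hG g) (Subgroup.mem_zpowers _)
      rwa [← map_mul, ← map_inv, ← map_mul] at this
    have hnorm : ∀ z ∈ P', ((h * g * h⁻¹ : E Q) : (ι → F) ≃ₗ[F] (ι → F))⁻¹ * z *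
        ((h * g * h⁻¹ : E Q) : (ι → F) ≃ₗ[F] (ι → F)) ∈ P' := by
      rintro _ ⟨a, ha, rfl⟩
      have h6 : ((h * g * h⁻¹ : E Q) : (ι → F) ≃ₗ[F] (ι → F))⁻¹ * (a : (ι → F) ≃ₗ[F] (ι → F)) *
        ((h * g * h⁻¹ : E Q) : (ι → F) ≃ₗ[F] (ι → F)) = (((h * g * h⁻¹)⁻¹ * a * (h * g * h⁻¹) : E Q) :
          (ι → F) ≃ₗ[F] (ι → F)) := rfl
      change ((h * g * h⁻¹ : E Q) : (ι → F) ≃ₗ[F] (ι → F))⁻¹ * (a : (ι → F) ≃ₗ[F] (ι → F)) *
        ((h * g * h⁻¹ : E Q) : (ι → F) ≃ₗ[F] (ι → F)) ∈ P'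
      rw [h6, hmemP, map_mul, map_mul, map_inv]
      have h7 := hKP (K.inv_mem hk)
      rw [Subgroup.mem_normalizer_iff] at h7
      have h8 := (h7 (omHom hG a)).1 ha
      rwa [inv_inv] at h8
    rcases hirr h W (hW _ hnorm) with h4 | h4
    · exact hW0 h4
    · exact hW1 h4

end

/-- `Ω₈⁻(q)`, `q` even -/
theorem minus_eight (F : Type) [Field F] [Fintype F] (a b : F) (h2 : (2 : F) = 0)
    (hab : ∀ z₁ z₂ : F, z₁ ^ 2 + a * z₁ * z₂ + b * z₂ ^ 2 = 0 → z₁ = 0 ∧ z₂ = 0) :
    MaxCls.Sep 5 (Cfsg.POmega F (Cfsg.quadFormMinus 3 F a b)) := by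
  obtain ⟨p, _, _⟩ := exists_char F
  have hcard : Fintype.card ((Fin 3 ⊕ Fin 3) ⊕ Fin 2) = 8 := rfl
  have hG : Good (minusForm 3 F a b) := good_of_finite (nondeg_minusForm 3 F a b hab) (by
    rw [Module.finrank_fintype_fun_eq_card, hcard]; omega)
  have hT : HasRGDT p (CoxeterMatrix.B 3) (Cfsg.POmega F ⇑(minusForm 3 F a b)) := by
    rw [coe_minusForm]
    exact typ_PO_minus hab (by omega)
  obtain ⟨x, y, hxy⟩ := hG.exists_hyp
  have hval : minusForm 3 F a b (x + y) ≠ 0 := by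
    rw [Q_add, hxy.left, hxy.right, hxy.pair]
    simp
  have hq : 2 ≤ Nat.card F := Finite.one_lt_card
  obtain ⟨r, hr⟩ := exists_prim (q := Nat.card F) (e := 8) hq (by omega) (by omega)
  have hrG : r ∣ Nat.card (Cfsg.POmega F ⇑(minusForm 3 F a b)) := by
    rw [coe_minusForm]
    have h1 := Cfsg.Agent.S0294.result (F := F) rfl 4 le_rfl a b hab
    rw [← Nat.card_eq_fintype_card] at h1
    have h3 : r ∣ Nat.card F ^ 4 + 1 := hr.dvd_add (by norm_num) (by norm_num)
    have h4 : r ∣ Nat.gcd 4 (Nat.card F ^ 4 + 1) *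
        Nat.card (Cfsg.POmega F (Cfsg.quadFormMinus (4 - 1) F a b)) := by
      rw [h1, mul_assoc]
      exact Dvd.dvd.mul_left (Dvd.dvd.mul_right h3 _) _
    rcases hr.prime.dvd_mul.1 h4 with h5 | h5
    · exfalso
      have h6 : r ∣ 4 := h5.trans (Nat.gcd_dvd_left _ _)
      have h7 : r ∣ 2 := by
        have : r ∣ 2 ^ 2 := h6
        exact hr.prime.dvd_of_dvd_pow this
      have h8 : r = 2 := (Nat.prime_dvd_prime_iff_eq hr.prime Nat.prime_two).1 h7
      have h9 := hr.odd (by omega)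
      omega
    · exact h5
  have h1 := sep_irr hG h2 (by rw [hcard]; omega) hT (fun c _ => dvd_minus (by omega) a b c) hval
    (r := r) (by rw [hcard]; exact hr) hrG
  rw [coe_minusForm] at h1
  exact h1

/-- **the row of the orthogonal groups of minus type** -/
theorem ominus {G : Type} [Group G] (h : Cfsg.IsPOmegaMinus G) : MaxCls.Sep 5 G :=
  ominus_of (fun F _ _ a b h2 hab => minus_eight F a b h2 hab) h

end Cfsg.Agent.H79.OmNs
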